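import Groth.Agent.AbSch.K630.Coc
import Groth.Agent.AbSch.K544.CocExt
import Groth.Agent.AbSch.K595.Chart

/-!
# S19295: `n`-splittings over an arbitrary affine base from the Noetherian case
-/

set_option autoImplicit false
universe u
open CategoryTheory CategoryTheory.Limits MonoidalCategory CartesianMonoidalCategory MonObj AlgebraicGeometry Opposite
open Groth.Agent.Etdl.H432.Sec K452.HomPts K771.HomEv K630.AbExt

noncomputable section

namespace K130.Gen

theorem cov_of_smooth {S : Scheme.{u}} {T X : Over S} (p : X ⟶ T) [Smooth p.left] [Surjective p.left] : Dat.Cov p :=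
  fun x => ⟨PUnit.unit, inferInstance, inferInstance, p.left.surjective x⟩

set_option backward.isDefEq.respectTransparency.types false in
theorem isAffineHom_gm (S : Scheme.{u}) : IsAffineHom (Red.Gm S).hom := by
  have h1 : IsAffineHom (Red.diag (ULift.{u} ℤ) ℤ).hom :=
    inferInstanceAs (IsAffineHom (Spec.map (CommRingCat.ofHom
      (algebraMap (ULift.{u} ℤ) (MonoidAlgebra (ULift.{u} ℤ) (Multiplicative ℤ))))))
  exact MorphismProperty.pullback_snd _ _ h1

/-- The statement of job 120 (Noetherian models of cocycles). -/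
def NoethModel : Prop :=
  ∀ {Λ : Type u} [CommRing Λ] (A : Over (Spec (CommRingCat.of Λ))) [GrpObj A]
    [IsCommMonObj A] [Smooth A.hom] [IsProper A.hom] [GeometricallyConnected A.hom]
    (X : Over (Spec (CommRingCat.of Λ))) [IsAffine X.left] (p : X ⟶ Red.Gm (Spec (CommRingCat.of Λ)))
    [Smooth p.left] [Surjective p.left] (c : Coc A p),
    ∃ (Λ₀ : Type u) (_ : CommRing Λ₀) (_ : IsNoetherianRing Λ₀) (A₀ : Over (Spec (CommRingCat.of Λ₀)))
      (_ : GrpObj A₀) (_ : IsCommMonObj A₀) (_ : Smooth A₀.hom) (_ : IsProper A₀.hom)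
      (_ : GeometricallyConnected A₀.hom) (X₀ : Over (Spec (CommRingCat.of Λ₀))) (_ : IsAffine X₀.left)
      (p₀ : X₀ ⟶ Red.Gm (Spec (CommRingCat.of Λ₀))) (_ : Smooth p₀.left) (_ : Surjective p₀.left)
      (c₀ : Coc A₀ p₀), ∀ n : ℕ, c₀.Sol n → c.Sol n

/-- GEN -/
theorem gen_of_noeth (H : NoethModel.{u})
    (H6 : ∀ (Λ : Type u) [CommRing Λ] [IsNoetherianRing Λ] (A : Over (Spec (CommRingCat.of Λ)))
      [GrpObj A] [IsCommMonObj A] [Smooth A.hom] [IsProper A.hom] [GeometricallyConnected A.hom]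
      (D : Dat (Red.Gm (Spec (CommRingCat.of Λ))) A), ∃ n, 0 < n ∧ D.NS n (𝟙_ (Over (Spec (CommRingCat.of Λ)))))
    (Λ : Type u) [CommRing Λ] (A : Over (Spec (CommRingCat.of Λ))) [GrpObj A]
    [IsCommMonObj A] [Smooth A.hom] [IsProper A.hom] [GeometricallyConnected A.hom]
    (D : Dat (Red.Gm (Spec (CommRingCat.of Λ))) A) : ∃ n, 0 < n ∧ D.NS n (𝟙_ (Over (Spec (CommRingCat.of Λ)))) := by
  have hcs : CompactSpace (Red.Gm (Spec (CommRingCat.of Λ))).left := by
    have h1 : IsAffineHom (Red.Gm (Spec (CommRingCat.of Λ))).hom := isAffineHom_gm _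
    have h2 : IsAffine (Spec (CommRingCat.of Λ)) := inferInstance
    have h3 : IsAffine (Red.Gm (Spec (CommRingCat.of Λ))).left :=
      isAffine_of_isAffineHom (Red.Gm (Spec (CommRingCat.of Λ))).hom
    infer_instance
  obtain ⟨X, p, e, hX, hp1, hp2, he⟩ := K595.Chart.exists_chart D
  obtain ⟨Λ₀, i1, i2, A₀, i3, i4, i5, i6, i7, X₀, i8, p₀, i9, i10, c₀, hc₀⟩ := H A X p (D.coc p e he)
  have hcov₀ := cov_of_smooth p₀
  obtain ⟨D₀, e₀, he₀, hb₀⟩ := K544.CocExt.exists_dat_of_coc p₀ hcov₀ c₀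
  obtain ⟨n, hn, hns⟩ := H6 Λ₀ A₀ D₀
  refine ⟨n, hn, (D.ns_iff_sol p e he (cov_of_smooth p)).2 (hc₀ n ?_)⟩
  obtain ⟨a, ha⟩ := (D₀.ns_iff_sol p₀ e₀ he₀ hcov₀).1 hns
  refine ⟨a, fun {W} x y z h => ?_⟩
  have h1 : c₀.b x y z h = (D₀.coc p₀ e₀ he₀).b x y z h := by
    apply sec_inj
    apply D₀.i_inj
    rw [hb₀, D₀.i_coc]
  rw [h1]
  exact ha x y z h

end K130.Gen
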